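import Groth.Agent.Lib.Helper2.ClImm.Alg
import Groth.Agent.Lib.Helper2.Mon.ProjClosed
import Groth.Agent.Lib.Helper2.Mon.PullTensor

/-!
# The direct image along a closed immersion is fully faithful (helper2)

* `isIso_counit_app f M` : `f^* f_* M ⟶ M` is invertible for a closed immersion `f`;
* `fullyFaithfulPushforward f`.
-/

set_option autoImplicit false
universe u
open CategoryTheory CategoryTheory.Limits AlgebraicGeometry TopologicalSpace Opposite TensorProduct
open Scheme.Modules
open Groth.Agent.Lib.Helper2.Stk Groth.Agent.Lib.Helper2.Mon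
open Groth.Agent.Lib.Helper3 Groth.Agent.Lib.Helper3.PbBasic

namespace Groth.Agent.Lib.Helper2.ClImm

variable {X Y : Scheme.{u}} (f : X ⟶ Y)

lemma counit_pull (M : X.Modules) (V : Y.Opens) (s : Γ(M, f ⁻¹ᵁ V)) :
    ((pullbackPushforwardAdjunction f).counit.app M).app (f ⁻¹ᵁ V)
      (pull f ((pushforward f).obj M) V s) = s := by
  have h := (pullbackPushforwardAdjunction f).right_triangle_components M
  have h2 := congrArg (fun ψ => (Scheme.Modules.Hom.app ψ V) s) h
  exact h2

variable (x : X) (M : X.Modules)

/-- the stalk of the counit, transported along `pullStalkIso` -/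
noncomputable def q :
    (ModuleCat.extendScalars (φst f x)).obj ((Φ (f.base x)).obj ((pushforward f).obj M)) ⟶
      (Φ x).obj M :=
  (pullStalkIso f x).inv.app ((pushforward f).obj M) ≫
    (Φ x).map ((pullbackPushforwardAdjunction f).counit.app M)

open ChangeOfRings in
lemma homEquiv_q :
    (ModuleCat.extendRestrictScalarsAdj (φst f x)).homEquiv _ _ (q f x M) =
      pushStalkHom f x M := by
  apply ModuleCat.hom_ext
  apply LinearMap.ext
  intro n
  obtain ⟨V, hx, s, rfl⟩ := TopCat.Presheaf.exists_germ_eq ((pushforward f).obj M).presheaf n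
  have h1 := pullStalkIso_inv_tmul f x ((pushforward f).obj M) V hx s
  have h2 := DerSch.stalkFunctor_map_germ x ((pullbackPushforwardAdjunction f).counit.app M)
    (f ⁻¹ᵁ V) hx (pull f ((pushforward f).obj M) V s)
  have h3 := counit_pull f M V s
  have h4 := pushStalkHom_germ f x M V hx s
  refine Eq.trans ?_ h4.symm
  refine Eq.trans ?_ (congrArg (fun z => M.presheaf.germ (f ⁻¹ᵁ V) x hx z) h3)
  refine Eq.trans ?_ h2
  exact congrArg (fun z => (Φ x).map ((pullbackPushforwardAdjunction f).counit.app M) z) h1

lemma q_eq :
    q f x M = (ModuleCat.extendScalars (φst f x)).map (pushStalkHom f x M) ≫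
      (ModuleCat.extendRestrictScalarsAdj (φst f x)).counit.app ((Φ x).obj M) := by
  have h := ((ModuleCat.extendRestrictScalarsAdj (φst f x)).homEquiv _ _).symm_apply_apply (q f x M)
  rw [homEquiv_q, Adjunction.homEquiv_counit] at h
  exact h.symm

variable [IsClosedImmersion f]

theorem isIso_stalk_counit :
    IsIso ((Φ x).map ((pullbackPushforwardAdjunction f).counit.app M)) := by
  have hsurj : Function.Surjective (φst f x) := by
    exact f.stalkMap_surjective x
  haveI i1 : IsIso (pushStalkHom f x M) :=
    (ConcreteCategory.isIso_iff_bijective _).2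
      (pushStalkHom_bijective f x f.isClosedEmbedding.isInducing M)
  haveI i2 := isIso_counit_app (φst f x) hsurj ((Φ x).obj M)
  haveI i3 : IsIso (q f x M) := by
    rw [q_eq]
    infer_instance
  have h : (Φ x).map ((pullbackPushforwardAdjunction f).counit.app M) =
      (pullStalkIso f x).hom.app ((pushforward f).obj M) ≫ q f x M := by
    unfold q
    rw [Iso.hom_inv_id_app_assoc]
  rw [h]
  infer_instance

theorem isIso_counit_app' : IsIso ((pullbackPushforwardAdjunction f).counit.app M) := by
  haveI : ∀ x : X, IsIso ((Φ x).map ((pullbackPushforwardAdjunction f).counit.app M)) :=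
    fun x => isIso_stalk_counit f x M
  exact jointlyReflectIsomorphisms_Φ.isIso _

instance isIso_counit : IsIso (pullbackPushforwardAdjunction f).counit :=
  haveI : ∀ M, IsIso ((pullbackPushforwardAdjunction f).counit.app M) :=
    fun M => isIso_counit_app' f M
  NatIso.isIso_of_isIso_app _

/-- `f_*` is fully faithful for a closed immersion -/
noncomputable def fullyFaithfulPushforward : (pushforward f).FullyFaithful :=
  (pullbackPushforwardAdjunction f).fullyFaithfulROfIsIsoCounit

instance full_pushforward : (pushforward f).Full := (fullyFaithfulPushforward f).full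
instance faithful_pushforward : (pushforward f).Faithful := (fullyFaithfulPushforward f).faithful

end Groth.Agent.Lib.Helper2.ClImm
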