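import Mathlib

/-!
# Extension–restriction of scalars along a surjective ring map: the counit is invertible (helper2)
-/

set_option autoImplicit false
universe u
open CategoryTheory TensorProduct

namespace Groth.Agent.Lib.Helper2.ClImm

variable {R S : Type u} [CommRing R] [CommRing S] (φ : R →+* S)

lemma exists_one_tmul (hφ : Function.Surjective φ) (T : ModuleCat.{u} S)
    (z : ((ModuleCat.extendScalars φ).obj ((ModuleCat.restrictScalars φ).obj T))) :
    ∃ t : ↑((ModuleCat.restrictScalars φ).obj T),
      z = ((show ↑((ModuleCat.restrictScalars φ).obj (ModuleCat.of S S)) from (1 : S)) ⊗ₜ[R] t) := by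
  induction z using TensorProduct.induction_on with
  | zero => exact ⟨0, (TensorProduct.tmul_zero _ _).symm⟩
  | tmul s t =>
    obtain ⟨r, hr⟩ := hφ s
    refine ⟨r • t, ?_⟩
    have h1 : s = r • (show ↑((ModuleCat.restrictScalars φ).obj (ModuleCat.of S S)) from (1 : S)) := by
      show s = (φ r * 1 : S)
      exact (hr.symm.trans (mul_one (φ r)).symm)
    rw [h1, TensorProduct.smul_tmul]
  | add a b ha hb =>
    obtain ⟨t, rfl⟩ := ha
    obtain ⟨t', rfl⟩ := hb
    exact ⟨t + t', (TensorProduct.tmul_add _ _ _).symm⟩

theorem counit_bijective (hφ : Function.Surjective φ) (T : ModuleCat.{u} S) :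
    Function.Bijective ((ModuleCat.extendRestrictScalarsAdj φ).counit.app T).hom := by
  constructor
  · rw [injective_iff_map_eq_zero]
    intro z hz
    obtain ⟨t, rfl⟩ := exists_one_tmul φ hφ T z
    have h := ModuleCat.extendRestrictScalarsAdj_counit_app_apply_one_tmul φ T t
    have h2 : t = 0 := h.symm.trans hz
    rw [h2]
    exact TensorProduct.tmul_zero _ _
  · intro t
    exact ⟨_, ModuleCat.extendRestrictScalarsAdj_counit_app_apply_one_tmul φ T t⟩

theorem isIso_counit_app (hφ : Function.Surjective φ) (T : ModuleCat.{u} S) :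
    IsIso ((ModuleCat.extendRestrictScalarsAdj φ).counit.app T) :=
  (ConcreteCategory.isIso_iff_bijective _).2 (counit_bijective φ hφ T)

end Groth.Agent.Lib.Helper2.ClImm
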